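import Groth.Agent.Lib.Helper39.AffBasis.Site
import Mathlib.AlgebraicGeometry.ResidueField

set_option autoImplicit false
universe u
open AlgebraicGeometry CategoryTheory TopologicalSpace Opposite

namespace Groth.Agent.Lib.Helper39.AffBasis

variable {X : Scheme.{u}} (F : (X.affineOpens)ᵒᵖ ⥤ Type u)

/-- restriction -/
def res {U V : X.affineOpens} (h : V ≤ U) (s : F.obj (op U)) : F.obj (op V) :=
  F.map (homOfLE h).op s

lemma res_res {U V W : X.affineOpens} (h₁ : V ≤ U) (h₂ : W ≤ V) (s : F.obj (op U)) :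
    res F h₂ (res F h₁ s) = res F (h₂.trans h₁) s := by
  unfold res
  rw [← Functor.map_comp_apply]
  rfl

lemma res_self {U : X.affineOpens} (h : U ≤ U) (s : F.obj (op U)) : res F h s = s := by
  unfold res
  have : (homOfLE h).op = 𝟙 (op U) := rfl
  rw [this, Functor.map_id_apply]

/-- basic open of an affine open, as an affine open -/
def bo (U : X.affineOpens) (f : Γ(X, (U : X.Opens))) : X.affineOpens :=
  ⟨X.basicOpen f, U.2.basicOpen f⟩

lemma bo_le (U : X.affineOpens) (f : Γ(X, (U : X.Opens))) : bo U f ≤ U := X.basicOpen_le f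

/-- `U ⊓ D(f)` for `f` a function on a bigger affine open. -/
def cap {U₀ U : X.affineOpens} (hU : U ≤ U₀) (f : Γ(X, (U₀ : X.Opens))) : X.affineOpens :=
  ⟨(U : X.Opens) ⊓ X.basicOpen f, by
    have := U.2.basicOpen ((X.presheaf.map (homOfLE (show (U : X.Opens) ≤ U₀ from hU)).op).hom f)
    rwa [Scheme.basicOpen_res] at this⟩

lemma cap_le {U₀ U : X.affineOpens} (hU : U ≤ U₀) (f : Γ(X, (U₀ : X.Opens))) : cap hU f ≤ U :=
  inf_le_left (a := (U : X.Opens))

lemma cap_mono {U₀ U U' : X.affineOpens} (hU : U ≤ U₀) (hU' : U' ≤ U₀) (h : U' ≤ U)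
    (f : Γ(X, (U₀ : X.Opens))) : cap hU' f ≤ cap hU f :=
  inf_le_inf_right (X.basicOpen f) (show (U' : X.Opens) ≤ U from h)

/-- the binary gluing hypothesis of S9513 -/
def Bin : Prop :=
  ∀ (U V W VW : X.affineOpens) (f g : Γ(X, (U : X.Opens))),
    (V : X.Opens) = X.basicOpen f → (W : X.Opens) = X.basicOpen g →
    (VW : X.Opens) = X.basicOpen (f * g) → (U : X.Opens) = (V : X.Opens) ⊔ (W : X.Opens) →
    ∀ (hV : V ≤ U) (hW : W ≤ U) (h1 : VW ≤ V) (h2 : VW ≤ W),
    Function.Injective (fun s : F.obj (op U) => (F.map (homOfLE hV).op s, F.map (homOfLE hW).op s)) ∧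
    Set.range (fun s : F.obj (op U) => (F.map (homOfLE hV).op s, F.map (homOfLE hW).op s)) =
      {p | F.map (homOfLE h1).op p.1 = F.map (homOfLE h2).op p.2}

/-- strong compatibility of a family on the `cap`s -/
def StrongCompat {U₀ U : X.affineOpens} (hU : U ≤ U₀) {n : ℕ} (f : Fin n → Γ(X, (U₀ : X.Opens)))
    (x : ∀ i, F.obj (op (cap hU (f i)))) : Prop :=
  ∀ (i j : Fin n) (W : X.affineOpens) (hi : W ≤ cap hU (f i)) (hj : W ≤ cap hU (f j)),
    res F hi (x i) = res F hj (x j)

/-- sheaf condition for standard covers by `n` functions. -/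
def P (n : ℕ) : Prop :=
  ∀ (U₀ U : X.affineOpens) (hU : U ≤ U₀) (f : Fin n → Γ(X, (U₀ : X.Opens))),
    (∀ x ∈ (U : X.Opens), ∃ i, x ∈ X.basicOpen (f i)) →
    (∀ s t : F.obj (op U), (∀ i, res F (cap_le hU (f i)) s = res F (cap_le hU (f i)) t) → s = t) ∧
    (∀ x : (∀ i, F.obj (op (cap hU (f i)))), StrongCompat F hU f x →
      ∃ s : F.obj (op U), ∀ i, res F (cap_le hU (f i)) s = x i)

theorem P_zero (E : X.affineOpens) (hE : (E : X.Opens) = ⊥)
    (ha : Nonempty (F.obj (op E)) ∧ Subsingleton (F.obj (op E))) : P F 0 := by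
  intro U₀ U hU f hcov
  have hUE : U = E := by
    apply Subtype.ext
    rw [hE]
    refine le_antisymm ?_ bot_le
    intro x hx
    obtain ⟨i, -⟩ := hcov x hx
    exact i.elim0
  subst hUE
  exact ⟨fun s t _ => ha.2.elim s t, fun x _ => ⟨ha.1.some, fun i => i.elim0⟩⟩

theorem P_succ (hB : Bin F) (n : ℕ) (ih : P F n) : P F (n + 1) := by
  intro U₀ U hU f hcov
  let fU : Fin (n + 1) → Γ(X, (U : X.Opens)) := fun i =>
    (X.presheaf.map (homOfLE (show (U : X.Opens) ≤ U₀ from hU)).op).hom (f i)
  have hfU : ∀ i, X.basicOpen (fU i) = (U : X.Opens) ⊓ X.basicOpen (f i) := fun i =>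
    X.basicOpen_res _ _
  have hspan : Ideal.span (Set.range fU) = ⊤ := by
    rw [← U.2.self_le_iSup_basicOpen_iff]
    intro x hx
    obtain ⟨i, hi⟩ := hcov x hx
    rw [Opens.mem_iSup]
    exact ⟨⟨fU i, i, rfl⟩, by rw [hfU]; exact ⟨hx, hi⟩⟩
  obtain ⟨c, hc⟩ := (Ideal.mem_span_range_iff_exists_fun).mp
    (by rw [hspan]; trivial : (1 : Γ(X, (U : X.Opens))) ∈ Ideal.span (Set.range fU))
  let g : Γ(X, (U : X.Opens)) := ∑ i : Fin n, c i.succ * fU i.succ
  have hsum : c 0 * fU 0 + g = 1 := by rw [← hc, Fin.sum_univ_succ]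
  -- the objects
  let V : X.affineOpens := cap hU (f 0)
  let W : X.affineOpens := bo U g
  let VW : X.affineOpens := bo U (fU 0 * g)
  have hV : V ≤ U := cap_le hU (f 0)
  have hW : W ≤ U := bo_le U g
  have h1 : VW ≤ V := by
    show X.basicOpen (fU 0 * g) ≤ (U : X.Opens) ⊓ X.basicOpen (f 0)
    rw [Scheme.basicOpen_mul, hfU]; exact inf_le_left
  have h2 : VW ≤ W := by
    show X.basicOpen (fU 0 * g) ≤ X.basicOpen g
    rw [Scheme.basicOpen_mul]; exact inf_le_right
  have hWU₀ : W ≤ U₀ := hW.trans hU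
  have hVWU₀ : VW ≤ U₀ := (h2.trans hW).trans hU
  -- cover facts
  have hA : (U : X.Opens) = (V : X.Opens) ⊔ (W : X.Opens) := by
    apply le_antisymm
    · intro x hx
      by_contra hcon
      have h0 : x ∉ X.basicOpen (fU 0) := fun h => hcon (Or.inl (by rw [hfU] at h; exact h))
      have hg : x ∉ X.basicOpen g := fun h => hcon (Or.inr h)
      rw [← X.evaluation_eq_zero_iff_notMem_basicOpen x hx] at h0 hg
      have := congrArg (X.evaluation (U : X.Opens) x hx).hom hsum
      rw [map_add, map_mul, map_one] at this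
      change _ * (X.evaluation (U : X.Opens) x hx) (fU 0) + (X.evaluation (U : X.Opens) x hx) g = 1
        at this
      rw [h0, hg, mul_zero, add_zero] at this
      exact zero_ne_one this
    · exact sup_le (inf_le_left (a := (U : X.Opens))) (X.basicOpen_le g)
  have hcovW : ∀ x ∈ X.basicOpen g, ∃ i : Fin n, x ∈ X.basicOpen (f i.succ) := by
    intro x hxg
    have hx : x ∈ (U : X.Opens) := X.basicOpen_le g hxg
    by_contra hcon
    have hcon' : ∀ i : Fin n, x ∉ X.basicOpen (f i.succ) := fun i h => hcon ⟨i, h⟩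
    have hz : (X.evaluation (U : X.Opens) x hx) g = 0 := by
      change (X.evaluation (U : X.Opens) x hx).hom (∑ i : Fin n, c i.succ * fU i.succ) = 0
      rw [map_sum]
      apply Finset.sum_eq_zero
      intro i _
      have hni : x ∉ X.basicOpen (fU i.succ) := fun h => hcon' i (by rw [hfU] at h; exact h.2)
      rw [← X.evaluation_eq_zero_iff_notMem_basicOpen x hx] at hni
      rw [map_mul]
      change _ * (X.evaluation (U : X.Opens) x hx) (fU i.succ) = 0
      rw [hni, mul_zero]
    exact ((X.evaluation_eq_zero_iff_notMem_basicOpen x hx g).mp hz) hxg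
  have binary := hB U V W VW (fU 0) g (hfU 0).symm rfl rfl hA hV hW h1 h2
  have ihW := ih U₀ W hWU₀ (fun i => f i.succ) (fun x hx => hcovW x hx)
  have ihVW := ih U₀ VW hVWU₀ (fun i => f i.succ) (fun x hx => hcovW x (h2 hx))
  have hle : ∀ i : Fin n, cap hWU₀ (f i.succ) ≤ cap hU (f i.succ) := fun i =>
    cap_mono hU hWU₀ hW (f i.succ)
  refine ⟨?_, ?_⟩
  · -- injectivity
    intro s t hst
    apply binary.1
    refine Prod.ext (hst 0) ?_
    show res F hW s = res F hW t
    apply ihW.1
    intro i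
    rw [res_res, res_res]
    have := congrArg (res F (hle i)) (hst i.succ)
    rwa [res_res, res_res] at this
  · -- gluing
    intro x hx
    let y : ∀ i : Fin n, F.obj (op (cap hWU₀ (f i.succ))) := fun i => res F (hle i) (x i.succ)
    have hy : StrongCompat F hWU₀ (fun i => f i.succ) y := by
      intro i j Q hi hj
      show res F hi (res F (hle i) (x i.succ)) = res F hj (res F (hle j) (x j.succ))
      rw [res_res, res_res]
      exact hx i.succ j.succ Q _ _
    obtain ⟨t, ht⟩ := ihW.2 y hy
    have hcompat : res F h1 (x 0) = res F h2 t := by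
      apply ihVW.1
      intro i
      rw [res_res, res_res]
      have hQ0 : cap hVWU₀ (f i.succ) ≤ cap hU (f 0) := (cap_le hVWU₀ (f i.succ)).trans h1
      have hQi : cap hVWU₀ (f i.succ) ≤ cap hU (f i.succ) :=
        cap_mono hU hVWU₀ (h2.trans hW) (f i.succ)
      have hQW : cap hVWU₀ (f i.succ) ≤ cap hWU₀ (f i.succ) := cap_mono hWU₀ hVWU₀ h2 (f i.succ)
      calc res F _ (x 0) = res F hQi (x i.succ) := hx 0 i.succ _ hQ0 hQi
        _ = res F hQW (y i) := by
            show _ = res F hQW (res F (hle i) (x i.succ))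
            rw [res_res]
        _ = res F hQW (res F (cap_le hWU₀ (f i.succ)) t) := by rw [ht i]
        _ = res F _ t := by rw [res_res]
    have hmem : (x 0, t) ∈ {p : F.obj (op V) × F.obj (op W) |
        F.map (homOfLE h1).op p.1 = F.map (homOfLE h2).op p.2} := hcompat
    rw [← binary.2] at hmem
    obtain ⟨s, hs⟩ := hmem
    have hs0 : res F hV s = x 0 := congrArg Prod.fst hs
    have hsW : res F hW s = t := congrArg Prod.snd hs
    refine ⟨s, fun i => ?_⟩
    refine Fin.cases hs0 (fun j => ?_) i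
    -- the affine open `T = U ⊓ D(f_{j+1})`, covered by `D(f_0)` and `D(g)`
    have hTU : cap hU (f j.succ) ≤ U := cap_le hU (f j.succ)
    let a : Γ(X, ((cap hU (f j.succ) : X.affineOpens) : X.Opens)) :=
      (X.presheaf.map (homOfLE (show ((cap hU (f j.succ) : X.affineOpens) : X.Opens) ≤ U
        from hTU)).op).hom (fU 0)
    let b : Γ(X, ((cap hU (f j.succ) : X.affineOpens) : X.Opens)) :=
      (X.presheaf.map (homOfLE (show ((cap hU (f j.succ) : X.affineOpens) : X.Opens) ≤ U
        from hTU)).op).hom g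
    have hab : X.basicOpen a = ((cap hU (f j.succ) : X.affineOpens) : X.Opens) ⊓
        X.basicOpen (fU 0) := X.basicOpen_res _ _
    have hbb : X.basicOpen b = ((cap hU (f j.succ) : X.affineOpens) : X.Opens) ⊓
        X.basicOpen g := X.basicOpen_res _ _
    have hcovT : ((cap hU (f j.succ) : X.affineOpens) : X.Opens) =
        ((bo (cap hU (f j.succ)) a : X.affineOpens) : X.Opens) ⊔
          ((bo (cap hU (f j.succ)) b : X.affineOpens) : X.Opens) := by
      apply le_antisymm
      · intro z hz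
        have hzU : z ∈ (U : X.Opens) := hTU hz
        have hzVW : z ∈ (V : X.Opens) ⊔ (W : X.Opens) := hA ▸ hzU
        rcases hzVW with h | h
        · left
          show z ∈ X.basicOpen a
          rw [hab, hfU]; exact ⟨hz, h⟩
        · right
          show z ∈ X.basicOpen b
          rw [hbb]; exact ⟨hz, h⟩
      · exact sup_le (X.basicOpen_le a) (X.basicOpen_le b)
    have binT := hB (cap hU (f j.succ)) (bo _ a) (bo _ b) (bo _ (a * b)) a b rfl rfl rfl hcovT
      (bo_le _ a) (bo_le _ b)
      (by show X.basicOpen (a * b) ≤ X.basicOpen a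
          rw [Scheme.basicOpen_mul]; exact inf_le_left)
      (by show X.basicOpen (a * b) ≤ X.basicOpen b
          rw [Scheme.basicOpen_mul]; exact inf_le_right)
    apply binT.1
    refine Prod.ext ?_ ?_
    · show res F (bo_le _ a) (res F hTU s) = res F (bo_le _ a) (x j.succ)
      have hT₁V : bo (cap hU (f j.succ)) a ≤ V := by
        show X.basicOpen a ≤ (U : X.Opens) ⊓ X.basicOpen (f 0)
        rw [hab, hfU]; exact inf_le_right
      rw [res_res]
      calc res F _ s = res F hT₁V (res F hV s) := by rw [res_res]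
        _ = res F hT₁V (x 0) := by rw [hs0]
        _ = res F (bo_le _ a) (x j.succ) := hx 0 j.succ _ hT₁V (bo_le _ a)
    · show res F (bo_le _ b) (res F hTU s) = res F (bo_le _ b) (x j.succ)
      have hT₂W : bo (cap hU (f j.succ)) b ≤ cap hWU₀ (f j.succ) := by
        show X.basicOpen b ≤ X.basicOpen g ⊓ X.basicOpen (f j.succ)
        rw [hbb]
        exact le_inf inf_le_right (inf_le_left.trans (inf_le_right (a := (U : X.Opens))))
      rw [res_res]
      calc res F _ s = res F hT₂W (res F (cap_le hWU₀ (f j.succ)) (res F hW s)) := by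
            rw [res_res, res_res]
        _ = res F hT₂W (y j) := by rw [hsW, ht j]
        _ = res F (bo_le _ b) (x j.succ) := by
            show res F hT₂W (res F (hle j) (x j.succ)) = _
            rw [res_res]

theorem P_all (E : X.affineOpens) (hE : (E : X.Opens) = ⊥)
    (ha : Nonempty (F.obj (op E)) ∧ Subsingleton (F.obj (op E))) (hB : Bin F) : ∀ n, P F n := by
  intro n
  induction n with
  | zero => exact P_zero F E hE ha
  | succ n ih => exact P_succ F hB n ih

end Groth.Agent.Lib.Helper39.AffBasis
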