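import Groth.Agent.Lib.Helper39.AffBasis.Sheaf

set_option autoImplicit false
universe u
open AlgebraicGeometry CategoryTheory TopologicalSpace Opposite

namespace Groth.Agent.Lib.Helper39.AffBasis

variable {X : Scheme.{u}} (F : (X.affineOpens)ᵒᵖ ⥤ Type u)

theorem exists_sheaf_of_bin (E : X.affineOpens) (hE : (E : X.Opens) = ⊥)
    (ha : Nonempty (F.obj (op E)) ∧ Subsingleton (F.obj (op E))) (hB : Bin F) :
    ∃ G : TopCat.Sheaf (Type u) X.carrier, Nonempty ((incl X).op ⋙ G.1 ≅ F) := by
  have hF : Presheaf.IsSheaf (topo X) F :=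
    (isSheaf_iff_isSheaf_of_type _ _).mpr (isSheaf_of_bin F E hE ha hB)
  let Y : Sheaf (topo X) (Type u) := ⟨F, hF⟩
  let Φ := (incl X).sheafPushforwardContinuous (Type u) (topo X) (Opens.grothendieckTopology X)
  have : Φ.IsEquivalence := inferInstance
  exact ⟨Φ.objPreimage Y, ⟨(sheafToPresheaf _ _).mapIso (Φ.objObjPreimageIso Y)⟩⟩

theorem isSheaf_of_iso (G : TopCat.Sheaf (Type u) X.carrier) (α : (incl X).op ⋙ G.1 ≅ F) :
    Presieve.IsSheaf (topo X) F := by
  have h0 : Presieve.IsSheaf (topo X) ((incl X).op ⋙ G.1) :=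
    Functor.op_comp_isSheaf_of_types (incl X) (topo X) (Opens.grothendieckTopology X) G
  rw [← isSheaf_iff_isSheaf_of_type] at h0 ⊢
  exact (Presheaf.isSheaf_of_iso_iff α).mp h0

theorem singleton_of_isSheaf (hF : Presieve.IsSheaf (topo X) F) (E : X.affineOpens)
    (hE : (E : X.Opens) = ⊥) : Nonempty (F.obj (op E)) ∧ Subsingleton (F.obj (op E)) := by
  have hcov : (⊥ : Sieve E) ∈ topo X E := by
    rw [mem_topo]
    intro x hx
    rw [hE] at hx
    exact hx.elim
  have h := hF (⊥ : Sieve E) hcov
  let x : Presieve.FamilyOfElements F (⊥ : Sieve E).arrows := fun _ _ hf => hf.elim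
  have hx : x.Compatible := fun _ _ _ _ _ _ _ h₁ => h₁.elim
  obtain ⟨t, -, ht⟩ := h x hx
  refine ⟨⟨t⟩, ⟨fun a b => ?_⟩⟩
  rw [ht a (fun _ _ hf => hf.elim), ht b (fun _ _ hf => hf.elim)]

theorem bin_of_isSheaf (hF : Presieve.IsSheaf (topo X) F) : Bin F := by
  intro U V W VW f g hVf hWg hVWfg hUVW hV hW h1 h2
  -- the covering sieve generated by `V` and `W`
  let S : Sieve U :=
    { arrows := fun T _ => T ≤ V ∨ T ≤ W
      downward_closed := by
        rintro T T' k (h | h) l
        · exact Or.inl (l.le.trans h)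
        · exact Or.inr (l.le.trans h) }
  have hS : S ∈ topo X U := by
    rw [mem_topo]
    intro x hx
    have hx' : x ∈ (V : X.Opens) ⊔ (W : X.Opens) := hUVW ▸ hx
    rcases hx' with h | h
    · exact ⟨V, homOfLE hV, Or.inl le_rfl, h⟩
    · exact ⟨W, homOfLE hW, Or.inr le_rfl, h⟩
  have hsh := hF S hS
  have hVWinf : ∀ T : X.affineOpens, T ≤ V → T ≤ W → T ≤ VW := by
    intro T hTV hTW
    show (T : X.Opens) ≤ (VW : X.Opens)
    rw [hVWfg, Scheme.basicOpen_mul, ← hVf, ← hWg]
    exact le_inf hTV hTW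
  refine ⟨?_, ?_⟩
  · -- injectivity
    intro s t hst
    have e1 : res F hV s = res F hV t := congrArg Prod.fst hst
    have e2 : res F hW s = res F hW t := congrArg Prod.snd hst
    let x : Presieve.FamilyOfElements F S.arrows := fun T k _ => F.map k.op s
    refine hsh.isSeparatedFor x s t (fun T k _ => rfl) ?_
    intro T k hk
    show F.map k.op t = F.map k.op s
    rcases hk with h | h
    · have := congrArg (res F h) e1
      rw [res_res, res_res] at this
      exact this.symm
    · have := congrArg (res F h) e2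
      rw [res_res, res_res] at this
      exact this.symm
  · -- range
    apply Set.eq_of_subset_of_subset
    · rintro _ ⟨s, rfl⟩
      show res F h1 (res F hV s) = res F h2 (res F hW s)
      rw [res_res, res_res]
    · rintro ⟨a, b⟩ hab
      have hab' : res F h1 a = res F h2 b := hab
      have hagree : ∀ (T : X.affineOpens) (hTV : T ≤ V) (hTW : T ≤ W),
          res F hTV a = res F hTW b := by
        intro T hTV hTW
        have := congrArg (res F (hVWinf T hTV hTW)) hab'
        rwa [res_res, res_res] at this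
      classical
      let val : ∀ (T : X.affineOpens), (T ≤ V ∨ T ≤ W) → F.obj (op T) := fun T hT =>
        if h : T ≤ V then res F h a else res F (hT.resolve_left h) b
      have val_V : ∀ (T : X.affineOpens) (hT : T ≤ V ∨ T ≤ W) (h : T ≤ V),
          val T hT = res F h a := fun T hT h => dif_pos h
      have val_W : ∀ (T : X.affineOpens) (hT : T ≤ V ∨ T ≤ W) (h : T ≤ W),
          val T hT = res F h b := by
        intro T hT h
        by_cases hV' : T ≤ V
        · rw [val_V T hT hV']; exact hagree T hV' h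
        · exact dif_neg hV'
      have val_res : ∀ (T T' : X.affineOpens) (hT : T ≤ V ∨ T ≤ W) (hT' : T' ≤ V ∨ T' ≤ W)
          (hle : T' ≤ T), res F hle (val T hT) = val T' hT' := by
        intro T T' hT hT' hle
        have hT₀ := hT
        rcases hT₀ with h | h
        · rw [val_V T hT h, val_V T' hT' (hle.trans h), res_res]
        · rw [val_W T hT h, val_W T' hT' (hle.trans h), res_res]
      let x : Presieve.FamilyOfElements F S.arrows := fun T _ hk => val T hk
      have hx : x.Compatible := by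
        intro T₁ T₂ Z g₁ g₂ k₁ k₂ hk₁ hk₂ _
        have hZ : Z ≤ V ∨ Z ≤ W := hk₁.imp (fun h => g₁.le.trans h) (fun h => g₁.le.trans h)
        show res F g₁.le (val T₁ hk₁) = res F g₂.le (val T₂ hk₂)
        rw [val_res T₁ Z hk₁ hZ g₁.le, val_res T₂ Z hk₂ hZ g₂.le]
      obtain ⟨s, hs, -⟩ := hsh x hx
      refine ⟨s, Prod.ext ?_ ?_⟩
      · show F.map (homOfLE hV).op s = a
        rw [hs (homOfLE hV) (Or.inl le_rfl)]
        show val V (Or.inl le_rfl) = a
        rw [val_V V (Or.inl le_rfl) le_rfl, res_self]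
      · show F.map (homOfLE hW).op s = b
        rw [hs (homOfLE hW) (Or.inr le_rfl)]
        show val W (Or.inr le_rfl) = b
        rw [val_W W (Or.inr le_rfl) le_rfl, res_self]

/-- S9513 -/
theorem exists_sheaf_iff (E : X.affineOpens) (hE : (E : X.Opens) = ⊥) :
    (∃ G : TopCat.Sheaf (Type u) X.carrier, Nonempty ((incl X).op ⋙ G.1 ≅ F)) ↔
      ((Nonempty (F.obj (op E)) ∧ Subsingleton (F.obj (op E))) ∧ Bin F) := by
  constructor
  · rintro ⟨G, ⟨α⟩⟩
    have hF := isSheaf_of_iso F G α
    exact ⟨singleton_of_isSheaf F hF E hE, bin_of_isSheaf F hF⟩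
  · rintro ⟨ha, hB⟩
    exact exists_sheaf_of_bin F E hE ha hB

end Groth.Agent.Lib.Helper39.AffBasis
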