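import Groth.Agent.Lib.Helper39.AffBasis.Glue

set_option autoImplicit false
universe u
open AlgebraicGeometry CategoryTheory TopologicalSpace Opposite

namespace Groth.Agent.Lib.Helper39.AffBasis

variable {X : Scheme.{u}} (F : (X.affineOpens)ᵒᵖ ⥤ Type u)

theorem isSheaf_of_bin (E : X.affineOpens) (hE : (E : X.Opens) = ⊥)
    (ha : Nonempty (F.obj (op E)) ∧ Subsingleton (F.obj (op E))) (hB : Bin F) :
    Presieve.IsSheaf (topo X) F := by
  have hP := P_all F E hE ha hB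
  intro U S hS
  rw [mem_topo] at hS
  have h1 : ∀ x : (U : X.Opens), ∃ f : Γ(X, (U : X.Opens)),
      (∃ (V : X.affineOpens) (g : V ⟶ U), S.arrows g ∧ X.basicOpen f ≤ (V : X.Opens)) ∧
        x.1 ∈ X.basicOpen f := by
    rintro ⟨x, hx⟩
    obtain ⟨V, g, hg, hxV⟩ := hS x hx
    obtain ⟨f, hfV, hxf⟩ := U.2.exists_basicOpen_le ⟨x, hxV⟩ hx
    exact ⟨f, ⟨V, g, hg, hfV⟩, hxf⟩
  choose fx hfx hxfx using h1
  have hspan : Ideal.span (Set.range fx) = ⊤ := by
    rw [← U.2.self_le_iSup_basicOpen_iff]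
    intro x hx
    rw [Opens.mem_iSup]
    exact ⟨⟨fx ⟨x, hx⟩, ⟨x, hx⟩, rfl⟩, hxfx ⟨x, hx⟩⟩
  obtain ⟨t, htsub, htspan⟩ := (Ideal.span_eq_top_iff_finite _).mp hspan
  let e : Fin t.card ≃ t := t.equivFin.symm
  let f : Fin t.card → Γ(X, (U : X.Opens)) := fun i => (e i).1
  have hcov : ∀ x ∈ (U : X.Opens), ∃ i, x ∈ X.basicOpen (f i) := by
    have hle : (U : X.Opens) ≤ ⨆ f : (t : Set Γ(X, (U : X.Opens))), X.basicOpen f.1 :=
      U.2.self_le_iSup_basicOpen_iff.mpr htspan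
    intro x hx
    obtain ⟨⟨f₀, hf₀⟩, hxf₀⟩ := Opens.mem_iSup.mp (hle hx)
    refine ⟨e.symm ⟨f₀, hf₀⟩, ?_⟩
    show x ∈ X.basicOpen (e (e.symm ⟨f₀, hf₀⟩)).1
    rw [Equiv.apply_symm_apply]
    exact hxf₀
  have hfS : ∀ i, S.arrows (homOfLE (cap_le (le_refl U) (f i))) := by
    intro i
    obtain ⟨x, hx⟩ := htsub (e i).2
    obtain ⟨V, g, hg, hle⟩ := hfx x
    have hcV : cap (le_refl U) (f i) ≤ V := by
      show (U : X.Opens) ⊓ X.basicOpen (f i) ≤ (V : X.Opens)
      refine inf_le_right.trans ?_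
      show X.basicOpen (e i).1 ≤ _
      rw [← hx]; exact hle
    have := S.downward_closed hg (homOfLE hcV)
    have heq : homOfLE (cap_le (le_refl U) (f i)) = homOfLE hcV ≫ g := Subsingleton.elim _ _
    rw [heq]
    exact this
  intro x hx
  obtain ⟨hinj, hglue⟩ := hP t.card U U le_rfl f hcov
  let xs : ∀ i, F.obj (op (cap (le_refl U) (f i))) := fun i =>
    x (homOfLE (cap_le (le_refl U) (f i))) (hfS i)
  have hxs : StrongCompat F (le_refl U) f xs := by
    intro i j W hi hj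
    exact hx (homOfLE hi) (homOfLE hj) (hfS i) (hfS j) (Subsingleton.elim _ _)
  obtain ⟨s, hs⟩ := hglue xs hxs
  refine ⟨s, ?_, ?_⟩
  · intro V g hg
    obtain ⟨hinjV, -⟩ := hP t.card U V g.le f (fun z hz => hcov z (g.le hz))
    apply hinjV
    intro i
    have hQU : cap g.le (f i) ≤ cap (le_refl U) (f i) := cap_mono (le_refl U) g.le g.le (f i)
    have e1 : res F (cap_le g.le (f i)) (F.map g.op s) =
        res F hQU (res F (cap_le (le_refl U) (f i)) s) := by
      rw [res_res]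
      unfold res
      rw [← Functor.map_comp_apply]
      rfl
    rw [e1, hs i]
    exact hx (homOfLE hQU) (homOfLE (cap_le g.le (f i))) (hfS i) hg (Subsingleton.elim _ _)
  · intro s' hs'
    apply hinj
    intro i
    rw [hs i]
    exact hs' (homOfLE (cap_le (le_refl U) (f i))) (hfS i)

end Groth.Agent.Lib.Helper39.AffBasis
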