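import Mathlib.AlgebraicGeometry.AffineScheme
import Mathlib.Topology.Sheaves.Sheaf
import Mathlib.CategoryTheory.Sites.DenseSubsite.InducedTopology
import Mathlib.CategoryTheory.Sites.DenseSubsite.SheafEquiv

set_option autoImplicit false
universe u
open AlgebraicGeometry CategoryTheory TopologicalSpace Opposite

namespace Groth.Agent.Lib.Helper39.AffBasis

variable (X : Scheme.{u})

/-- inclusion of affine opens (all inclusions as morphisms) into opens. -/
abbrev incl : X.affineOpens ⥤ X.Opens :=
  Monotone.functor (f := fun U : X.affineOpens => (U : X.Opens)) (fun _ _ h => h)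

instance : (incl X).Full where
  map_surjective := fun {U V} f => ⟨homOfLE (show U ≤ V from f.le), rfl⟩

instance : (incl X).Faithful where

instance : (incl X).IsCoverDense (Opens.grothendieckTopology X) where
  is_cover := by
    intro U x hx
    obtain ⟨_, ⟨V, hV, rfl⟩, hxV, hVU⟩ := X.isBasis_affineOpens.exists_subset_of_mem_open hx U.2
    exact ⟨V, homOfLE hVU, ⟨⟨V, hV⟩, 𝟙 _, homOfLE hVU, rfl⟩, hxV⟩

/-- the induced topology on affine opens -/
noncomputable def topo : GrothendieckTopology X.affineOpens :=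
  (incl X).inducedTopology (Opens.grothendieckTopology X)

lemma mem_topo {U : X.affineOpens} {S : Sieve U} :
    S ∈ topo X U ↔ ∀ x ∈ (U : X.Opens), ∃ (V : X.affineOpens) (f : V ⟶ U), S.arrows f ∧
      x ∈ (V : X.Opens) := by
  rw [topo, Functor.mem_inducedTopology_iff_of_isCoverDense]
  apply forall₂_congr fun x hxU ↦ ⟨?_, ?_⟩
  · rintro ⟨V, f, ⟨W, g, h, hg, rfl⟩, hxV⟩
    exact ⟨W, g, hg, h.le hxV⟩
  · rintro ⟨W, g, hg, hxW⟩
    exact ⟨(W : X.Opens), homOfLE g.le, ⟨W, g, 𝟙 _, hg, rfl⟩, hxW⟩

instance : (incl X).IsDenseSubsite (topo X) (Opens.grothendieckTopology X) := by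
  unfold topo
  infer_instance

end Groth.Agent.Lib.Helper39.AffBasis
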